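import Cfsg.Agent.Lib.CentTwoAlt.Setup
import Cfsg.Agent.Lib.EightSylow.Automizer
import Cfsg.Agent.Lib.Groups.SelfCentPrime

/-!
# The subgroup generated by the involutions is simple and transitive on them
-/

namespace CfsgLib.CentTwoAlt.Hyp

variable {G : Type*} [Group G] [Finite G] (H : Hyp G)

include H in
theorem not_dvd_sixteen : ¬ 16 ∣ Nat.card G := by
  intro h
  haveI := Fact.mk Nat.prime_two
  have hm := Subgroup.card_mul_index (H.P : Subgroup G)
  rw [H.card_P] at hm
  rw [← hm] at h
  exact H.P.not_dvd_index (Nat.dvd_of_mul_dvd_mul_left (show 0 < 8 by norm_num) h)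

/-- The conjugate, inside the core, of a subgroup of the core. -/
abbrev conjSub (g : G) (M : Subgroup H.core) : Subgroup H.core :=
  M.map (MulAut.conjNormal g).toMonoidHom

omit [Finite G] in
theorem conjSub_normal (g : G) (M : Subgroup H.core) (hM : M.Normal) : (H.conjSub g M).Normal :=
  hM.map _ (MulAut.conjNormal g).surjective

omit [Finite G] in
theorem normal_map_of_invariant (M : Subgroup H.core) (h : ∀ g, H.conjSub g M ≤ M) :
    (M.map H.core.subtype).Normal := by
  constructor
  rintro - ⟨x, hx, rfl⟩ g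
  exact ⟨MulAut.conjNormal g x, h g (Subgroup.mem_map_of_mem _ hx), MulAut.conjNormal_apply g x⟩

/-- A nontrivial normal subgroup of the core has even order. -/
theorem even_of_normal (M : Subgroup H.core) (hM : M.Normal) (h1 : M ≠ ⊥) :
    2 ∣ Nat.card M := by
  by_contra hodd
  have hco : (Nat.card M).Coprime 2 :=
    ((Nat.Prime.coprime_iff_not_dvd Nat.prime_two).mpr hodd).symm
  set K := Cfsg.pPrimeCore 2 H.core with hK
  have hKc := SelfCent.pPrimeCore_coprime (G := H.core) 2
  have hKn : (K.map H.core.subtype).Normal := by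
    refine H.normal_map_of_invariant K fun g =>
      SelfCent.le_pPrimeCore (H.conjSub_normal g K (SelfCent.pPrimeCore_normal' 2)) ?_
    exact Nat.card_congr (K.equivMapOfInjective _ (MulAut.conjNormal g).injective).toEquiv ▸ hKc
  have hbot := H.odd_normal_bot _ hKn (by
    rw [Nat.card_congr (K.equivMapOfInjective _ H.core.subtype_injective).symm.toEquiv]
    exact Nat.not_even_iff_odd.mp fun e =>
      (Nat.Prime.coprime_iff_not_dvd Nat.prime_two).mp hKc.symm (even_iff_two_dvd.mp e))
  rw [Subgroup.map_eq_bot_iff_of_injective _ H.core.subtype_injective] at hbot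
  exact h1 (le_bot_iff.mp (hbot ▸ SelfCent.le_pPrimeCore hM hco))

/-- An involution of the core is not central in it. -/
theorem not_central {s : G} (hs : orderOf s = 2) :
    ¬ ∀ n ∈ H.core, n * s = s * n := by
  intro hcen
  haveI := Fact.mk Nat.prime_two
  have hinv : ∀ x : G, orderOf x = 2 → ∀ n ∈ H.core, n * x = x * n := by
    intro x hx n hn
    obtain ⟨g, rfl⟩ := H.conj_J hx
    obtain ⟨k, hk⟩ := H.conj_J hs
    have h := hcen (k * g⁻¹ * n * (k * g⁻¹)⁻¹) ((inferInstance : H.core.Normal).conj_mem n hn _)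
    rw [← hk] at h
    calc n * (g * H.J * g⁻¹) = g * k⁻¹ * ((k * g⁻¹ * n * (k * g⁻¹)⁻¹) * (k * H.J * k⁻¹)) *
          (g * k⁻¹)⁻¹ := by group
      _ = g * k⁻¹ * ((k * H.J * k⁻¹) * (k * g⁻¹ * n * (k * g⁻¹)⁻¹)) * (g * k⁻¹)⁻¹ := by rw [h]
      _ = g * H.J * g⁻¹ * n := by group
  have hcomm : ∀ a ∈ H.core, ∀ b ∈ H.core, a * b = b * a := by
    have hle : H.core ≤ Subgroup.centralizer (H.core : Set G) := by
      haveI : (Subgroup.centralizer (H.core : Set G)).Normal := inferInstance
      refine Subgroup.normalClosure_le_normal fun y hy => ?_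
      rw [Set.mem_singleton_iff] at hy
      subst hy
      exact fun n hn => hinv H.J H.hJ n hn
    exact fun a ha b hb => (hle ha b hb).symm
  have hsq : ∀ a ∈ H.core, a * a = 1 := by
    intro a ha
    induction ha using Subgroup.closure_induction with
    | mem x hx =>
      obtain ⟨y, rfl, hy⟩ := Group.mem_conjugatesOfSet_iff.mp hx
      obtain ⟨g, rfl⟩ := isConj_iff.mp hy
      calc g * H.J * g⁻¹ * (g * H.J * g⁻¹) = g * (H.J * H.J) * g⁻¹ := by group
        _ = 1 := by rw [H.J_sq]; group
    | one => exact mul_one 1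
    | mul x y hx hy ix iy =>
      calc x * y * (x * y) = x * (y * x) * y := by group
        _ = x * (x * y) * y := by rw [hcomm y hy x hx]
        _ = (x * x) * (y * y) := by group
        _ = 1 := by rw [ix, iy, one_mul]
    | inv x _ ix => rw [← mul_inv_rev, ix, inv_one]
  refine H.not_normal ?_
  have hp : IsPGroup 2 H.core := fun a => ⟨1, Subtype.ext (by
    simpa [pow_two] using hsq a.1 a.2)⟩
  exact (H.P.is_maximal' hp H.P_le_core) ▸ (inferInstance : H.core.Normal)

/-- The core is simple. -/
theorem isSimple_core : IsSimpleGroup H.core := by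
  haveI := Fact.mk Nat.prime_two
  haveI : Nontrivial H.core := ⟨⟨H.J, H.J_mem_core⟩, 1, fun e => H.J_ne (congrArg Subtype.val e)⟩
  -- minimal normal subgroups
  have key : ∀ M : Subgroup H.core, M.Normal → M ≠ ⊥ →
      (∀ M' : Subgroup H.core, M'.Normal → M' ≤ M → M' = ⊥ ∨ M' = M) → M = ⊤ := by
    intro M hM hM1 hmin
    haveI := hM
    have heven := H.even_of_normal M hM hM1
    obtain ⟨s, hs⟩ := exists_prime_orderOf_dvd_card' 2 heven
    have hsG : orderOf ((s : H.core) : G) = 2 := by
      rw [Subgroup.orderOf_coe, Subgroup.orderOf_coe, hs]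
    by_cases hall : ∀ g, H.conjSub g M ≤ M
    · have hle := H.core_le (H.normal_map_of_invariant M hall) hsG
        ⟨s, s.2, rfl⟩
      refine top_le_iff.mp fun x _ => ?_
      obtain ⟨y, hy, hyx⟩ := hle x.2
      exact (Subtype.ext hyx : y = x) ▸ hy
    · exfalso
      push Not at hall
      obtain ⟨g, hg⟩ := hall
      haveI := H.conjSub_normal g M hM
      have hdisj : M ⊓ H.conjSub g M = ⊥ := by
        rcases hmin (M ⊓ H.conjSub g M) inferInstance inf_le_left with h | h
        · exact h
        · refine absurd ?_ hg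
          refine le_of_eq (Subgroup.eq_of_le_of_card_ge (inf_eq_left.mp h) ?_).symm
          exact (Nat.card_congr (M.equivMapOfInjective _ (MulAut.conjNormal g).injective).toEquiv).ge
      -- the square of the order divides the order of the group
      have hsqd : Nat.card M * Nat.card M ∣ Nat.card G := by
        have hc : ∀ (a : M) (b : H.conjSub g M), Commute (M.subtype a) ((H.conjSub g M).subtype b) :=
          fun a b => Subgroup.commute_of_normal_of_disjoint _ _ inferInstance inferInstance
            (disjoint_iff.mpr hdisj) _ _ a.2 b.2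
        have hinj : Function.Injective (MonoidHom.noncommCoprod M.subtype (H.conjSub g M).subtype hc) := by
          refine (MonoidHom.noncommCoprod_injective _ _ _).mpr
            ⟨M.subtype_injective, Subgroup.subtype_injective _, ?_⟩
          rw [Subgroup.range_subtype, Subgroup.range_subtype, disjoint_iff]
          exact hdisj
        have h := Subgroup.card_dvd_of_injective _ hinj
        have hcard : Nat.card (H.conjSub g M) = Nat.card M :=
          (Nat.card_congr (M.equivMapOfInjective _ (MulAut.conjNormal g).injective).toEquiv).symm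
        rw [Nat.card_prod, hcard] at h
        exact h.trans (Subgroup.card_subgroup_dvd_card H.core)
      have h4 : ¬ 4 ∣ Nat.card M := fun h =>
        H.not_dvd_sixteen ((show 16 = 4 * 4 by norm_num) ▸ (Nat.mul_dvd_mul h h).trans hsqd)
      obtain ⟨P⟩ := (inferInstance : Nonempty (Sylow 2 M))
      have hP2 : Nat.card (P : Subgroup M) = 2 := by
        obtain ⟨k, hk⟩ := P.2.exists_card_eq
        rcases k with _ | _ | k
        · exfalso
          have hm := Subgroup.card_mul_index (P : Subgroup M)
          rw [hk, pow_zero, one_mul] at hm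
          exact P.not_dvd_index (hm ▸ heven)
        · rw [hk]; norm_num
        · exfalso
          refine h4 (dvd_trans ⟨2 ^ k, ?_⟩ (hk ▸ Subgroup.card_subgroup_dvd_card (P : Subgroup M)))
          ring
      obtain ⟨u, hu⟩ := exists_prime_orderOf_dvd_card' 2 (G := (P : Subgroup M)) (by rw [hP2])
      rw [← Subgroup.orderOf_coe] at hu
      have hu1 : (u : M) ∉ (⊥ : Subgroup M) := by
        rw [Subgroup.mem_bot]
        intro e; rw [e, orderOf_one] at hu; norm_num at hu
      obtain ⟨K, hKn, hKi⟩ : ∃ K : Subgroup M, K.Normal ∧ K.index = 2 := by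
        rcases Transfer.thompson_transfer P (Q := ⊥) (by rw [Subgroup.relIndex_bot_left, hP2])
          (Transfer.sq_eq_one_of_orderOf_eq_two hu) u.2 hu1 with ⟨K, hK, hi, -⟩ | ⟨k, -, hk⟩
        · exact ⟨K, hK, hi⟩
        · exfalso
          rw [Subgroup.mem_bot] at hk
          exact hu1 (Subgroup.mem_bot.mpr (conj_eq_one_iff.mp hk))
      have hmul := Subgroup.card_mul_index K
      rw [hKi] at hmul
      have hKodd : Odd (Nat.card K) := by
        refine Nat.not_even_iff_odd.mp fun e => h4 ?_
        rw [← hmul]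
        obtain ⟨r, hr⟩ := e
        exact ⟨r, by omega⟩
      have hodd_mem : ∀ y : M, Odd (orderOf y) → y ∈ K := by
        intro y ⟨r, hr⟩
        have h2 : y * y ∈ K := Subgroup.mul_self_mem_of_index_two hKi y
        have : y = (y * y) ^ (r + 1) := by
          rw [← pow_two, ← pow_mul, show 2 * (r + 1) = orderOf y + 1 by omega, pow_succ,
            pow_orderOf_eq_one, one_mul]
        rw [this]
        exact K.pow_mem h2 _
      have hKnorm : (K.map M.subtype).Normal := by
        constructor
        rintro - ⟨x, hx, rfl⟩ n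
        refine ⟨⟨n * x.1 * n⁻¹, hM.conj_mem _ x.2 n⟩, hodd_mem _ ?_, rfl⟩
        rw [← Subgroup.orderOf_coe, show orderOf (n * x.1 * n⁻¹) = orderOf x.1 from
          (MulAut.conj n).orderOf_eq x.1, Subgroup.orderOf_coe]
        exact hKodd.of_dvd_nat (Subgroup.orderOf_dvd_natCard K hx)
      have hK1 : K.map M.subtype = ⊥ := by
        by_contra h
        have := H.even_of_normal _ hKnorm h
        rw [Nat.card_congr (K.equivMapOfInjective _ M.subtype_injective).symm.toEquiv] at this
        exact Nat.not_even_iff_odd.mpr hKodd (even_iff_two_dvd.mpr this)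
      rw [Subgroup.map_eq_bot_iff_of_injective _ M.subtype_injective] at hK1
      rw [hK1, Subgroup.card_bot, one_mul] at hmul
      refine H.not_central hsG fun n hn => ?_
      have hcs : (⟨(⟨n, hn⟩ : H.core) * s.1 * (⟨n, hn⟩ : H.core)⁻¹, hM.conj_mem _ s.2 _⟩ : M) = s := by
        rcases eq_or_ne ((⟨(⟨n, hn⟩ : H.core) * s.1 * (⟨n, hn⟩ : H.core)⁻¹, hM.conj_mem _ s.2 _⟩ : M)) s with h | h
        · exact h
        · exfalso
          obtain ⟨z, hz, hzu⟩ := (Nat.card_eq_two_iff' (1 : M)).mp hmul.symm
          have hs1 : s ≠ 1 := fun e => by rw [e, orderOf_one] at hs; norm_num at hs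
          refine h ((hzu _ fun e => hs1 ?_).trans (hzu s hs1).symm)
          have e' := congrArg Subtype.val e
          exact Subtype.ext (conj_eq_one_iff.mp e')
      have := congrArg (fun z : M => ((z : H.core) : G)) hcs
      exact mul_inv_eq_iff_eq_mul.mp this
  refine ⟨fun M hM => ?_⟩
  by_contra h
  push Not at h
  obtain ⟨M₀, ⟨hn, h0, hle⟩, hmin⟩ := (wellFounded_lt (α := Subgroup H.core)).has_min
    {M' | M'.Normal ∧ M' ≠ ⊥ ∧ M' ≤ M} ⟨M, hM, h.1, le_rfl⟩
  refine h.2 (top_le_iff.mp ((key M₀ hn h0 fun M' hn' hle' => ?_) ▸ hle))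
  by_contra hc
  push Not at hc
  exact hmin M' ⟨hn', hc.1, hle'.trans hle⟩ (lt_of_le_of_ne hle' hc.2)

/-- The Sylow subgroup inside the core. -/
noncomputable def coreSylow : Sylow 2 H.core := H.P.subtype H.P_le_core

theorem card_coreSylow : Nat.card (H.coreSylow : Subgroup H.core) = 8 := by
  rw [coreSylow, Sylow.coe_subtype,
    Nat.card_congr (Subgroup.subgroupOfEquivOfLe H.P_le_core).toEquiv, H.card_P]

theorem mem_coreSylow {x : H.core} : x ∈ (H.coreSylow : Subgroup H.core) ↔ (x : G) ∈ (H.P : Subgroup G) := by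
  rw [coreSylow, Sylow.coe_subtype]; rfl

theorem coreSylow_elementary : Cfsg.IsElementaryAbelian 2 (H.coreSylow : Subgroup H.core) := by
  refine ⟨⟨⟨fun a b => Subtype.ext (Subtype.ext ?_)⟩⟩, fun a ha => Subtype.ext ?_⟩
  · have h := congrArg Subtype.val
      (H.P_elementary.1.is_comm.comm ⟨_, H.mem_coreSylow.mp a.2⟩ ⟨_, H.mem_coreSylow.mp b.2⟩)
    simpa using h
  · simpa using H.P_elementary.2 _ (H.mem_coreSylow.mp ha)

theorem core_not_comm : ¬ IsMulCommutative H.core := by
  intro h
  haveI := H.isSimple_core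
  letI : CommGroup H.core := { (inferInstance : Group H.core) with mul_comm := h.is_comm.comm }
  have hp : (Nat.card H.core).Prime := IsSimpleGroup.prime_card
  have h8 := Subgroup.card_subgroup_dvd_card (H.coreSylow : Subgroup H.core)
  rw [H.card_coreSylow] at h8
  have := hp.eq_one_or_self_of_dvd 2 ((show 2 ∣ 8 by norm_num).trans h8)
  have h8le := Nat.le_of_dvd hp.pos h8
  omega

theorem seven_dvd : 7 ∣ Nat.card (EightSylow.act H.coreSylow).range := by
  haveI := H.isSimple_core
  rcases EightSylow.automizer_cases H.core_not_comm H.coreSylow H.coreSylow_elementary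
    H.card_coreSylow with h | ⟨h, -⟩ <;> rw [h]
  norm_num

/-- The core is transitive on the involutions. -/
theorem conj_J_core {x : G} (hx : orderOf x = 2) : ∃ n ∈ H.core, n * H.J * n⁻¹ = x := by
  haveI := Fact.mk Nat.prime_two
  set x' : H.core := ⟨x, H.mem_core hx⟩
  obtain ⟨Q, hQ⟩ := IsPGroup.exists_le_sylow (IsPGroup.of_card (n := 1)
    (show Nat.card (Subgroup.zpowers x') = 2 ^ 1 by
      rw [Nat.card_zpowers, Subgroup.orderOf_mk, hx, pow_one]) : IsPGroup 2 (Subgroup.zpowers x'))
  obtain ⟨k, hk⟩ := MulAction.exists_smul_eq H.core Q H.coreSylow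
  have hkx : k * x' * k⁻¹ ∈ (H.coreSylow : Subgroup H.core) := by
    rw [← hk, Sylow.coe_subgroup_smul]
    exact Subgroup.smul_mem_pointwise_smul x' (MulAut.conj k) _ (hQ (Subgroup.mem_zpowers x'))
  have hJ' : (⟨H.J, H.J_mem_core⟩ : H.core) ∈ (H.coreSylow : Subgroup H.core) :=
    H.mem_coreSylow.mpr H.hJP
  obtain ⟨a, ⟨n, rfl⟩, ha⟩ := EightSylow.transitive_of_seven H.card_coreSylow
    (EightSylow.act H.coreSylow).range H.seven_dvd (u := ⟨_, hJ'⟩) (v := ⟨_, hkx⟩)
    (fun e => H.J_ne (show H.J = 1 by
      simpa using congrArg (fun z : ↥(H.coreSylow : Subgroup H.core) => ((z : H.core) : G)) e))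
    (fun e => by
      have e' : k * x' * k⁻¹ = 1 := congrArg Subtype.val e
      have e'' : x = 1 := congrArg Subtype.val (conj_eq_one_iff.mp e')
      rw [e'', orderOf_one] at hx
      norm_num at hx)
  have ha' := congrArg (fun z : ↥(H.coreSylow : Subgroup H.core) => ((z : H.core) : G)) ha
  simp only [EightSylow.act_apply, Subgroup.coe_mul, InvMemClass.coe_inv] at ha'
  refine ⟨(k : G)⁻¹ * (n.1 : H.core), H.core.mul_mem (H.core.inv_mem k.2) n.1.2, ?_⟩
  calc (k : G)⁻¹ * (n.1 : H.core) * H.J * ((k : G)⁻¹ * (n.1 : H.core))⁻¹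
      = (k : G)⁻¹ * ((n.1 : H.core) * H.J * ((n.1 : H.core) : G)⁻¹) * k := by group
    _ = (x' : G) := by rw [ha']; group

theorem core_sup_cent : H.core ⊔ H.cent = ⊤ := by
  refine top_le_iff.mp fun g _ => ?_
  obtain ⟨n, hn, h⟩ := H.conj_J_core (x := g * H.J * g⁻¹) (((MulAut.conj g).orderOf_eq H.J).trans H.hJ)
  have hc : n⁻¹ * g ∈ H.cent := by
    rw [Subgroup.mem_centralizer_singleton_iff]
    calc n⁻¹ * g * H.J = n⁻¹ * (g * H.J * g⁻¹) * g := by group
      _ = n⁻¹ * (n * H.J * n⁻¹) * g := by rw [h]
      _ = _ := by group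
  have := Subgroup.mul_mem_sup hn hc
  rwa [mul_inv_cancel_left] at this

end CfsgLib.CentTwoAlt.Hyp
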