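import Mathlib.GroupTheory.SpecificGroups.Alternating.Simple

/-!
# Elementary facts on alternating groups of degree four, five, and at least six
-/

namespace CfsgLib.CentTwoAlt

open Equiv Equiv.Perm

/-- The facts about `A_m`, `m ∈ {4, 5}`, used for the centralizer problem. -/
structure SmallFacts (A : Type*) [Group A] : Prop where
  pow_four : ∀ x : A, x ^ 4 = 1 → x ^ 2 = 1
  conj : ∀ u v : A, orderOf u = 2 → orderOf v = 2 → ∃ g : A, g * u * g⁻¹ = v
  odd_normal : ∀ K : Subgroup A, K.Normal → Odd (Nat.card K) → K = ⊥

theorem smallFacts_of_base {A : Type*} [Group A]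
    (h4 : ∀ x : A, x ^ 4 = 1 → x ^ 2 = 1) (a : A)
    (hc : ∀ u : A, u ^ 2 = 1 → u = 1 ∨ ∃ g : A, g * a * g⁻¹ = u)
    (ho : ∀ K : Subgroup A, K.Normal → Odd (Nat.card K) → K = ⊥) :
    SmallFacts A where
  pow_four := h4
  odd_normal := ho
  conj := by
    intro u v hu hv
    obtain ⟨g, hg⟩ := (hc u (hu ▸ pow_orderOf_eq_one u)).resolve_left
      (fun e => by rw [e, orderOf_one] at hu; norm_num at hu)
    obtain ⟨k, hk⟩ := (hc v (hv ▸ pow_orderOf_eq_one v)).resolve_left
      (fun e => by rw [e, orderOf_one] at hv; norm_num at hv)
    exact ⟨k * g⁻¹, by rw [← hg, ← hk]; group⟩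

theorem even_four : ∀ x : alternatingGroup (Fin 4), x = 1 ∨
    ∃ g : alternatingGroup (Fin 4), g * x * g⁻¹ * x⁻¹ ≠ 1 ∧ (g * x * g⁻¹ * x⁻¹) ^ 2 = 1 := by
  decide +kernel

theorem smallFacts_four : SmallFacts (alternatingGroup (Fin 4)) :=
  smallFacts_of_base (by decide +kernel)
    ⟨swap 0 1 * swap 2 3, mem_alternatingGroup.mpr (by decide)⟩
    (by decide +kernel) (by
      intro K hK hodd
      refine (Subgroup.eq_bot_iff_forall K).mpr fun x hx => ?_
      by_contra hx1
      obtain ⟨g, hg1, hg2⟩ := (even_four x).resolve_left hx1
      have hmem : g * x * g⁻¹ * x⁻¹ ∈ K := K.mul_mem (hK.conj_mem x hx g) (K.inv_mem hx)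
      have := Subgroup.orderOf_dvd_natCard K hmem
      rw [orderOf_eq_prime hg2 hg1] at this
      exact Nat.not_even_iff_odd.mpr hodd (even_iff_two_dvd.mpr this))

theorem smallFacts_five : SmallFacts (alternatingGroup (Fin 5)) :=
  smallFacts_of_base (by decide +kernel)
    ⟨swap 0 1 * swap 2 3, mem_alternatingGroup.mpr (by decide)⟩
    (by decide +kernel) (by
      intro K hK hodd
      haveI := alternatingGroup.isSimpleGroup_five
      rcases hK.eq_bot_or_eq_top with h | h
      · exact h
      · subst h
        rw [Subgroup.card_top, nat_card_alternatingGroup, Nat.card_eq_fintype_card, Fintype.card_fin] at hodd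
        exact absurd hodd (by decide))

/-- In `A₄` an involution is centralized only by elements of square one, two of those commute, and
the exponent divides six. -/
theorem four_sq_of_commute : ∀ x u : alternatingGroup (Fin 4),
    u * u = 1 ∧ u ≠ 1 ∧ x * u = u * x → x * x = 1 := by decide +kernel

theorem four_commute : ∀ x u : alternatingGroup (Fin 4),
    u * u = 1 ∧ x * x = 1 → x * u = u * x := by decide +kernel

theorem four_pow_six : ∀ x : alternatingGroup (Fin 4), x ^ 6 = 1 := by decide +kernel

theorem no_involution_of_le_three {m : ℕ} (hm : m ≤ 3) (x : alternatingGroup (Fin m)) :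
    orderOf x ≠ 2 := by
  intro h
  have h2 : x ^ 2 = 1 := h ▸ pow_orderOf_eq_one x
  have hne : x ≠ 1 := fun e => by rw [e, orderOf_one] at h; norm_num at h
  clear h
  revert x
  interval_cases m <;> decide +kernel

/-- For `m ≥ 6` every involution of `A_m` is in the derived group of its centralizer. -/
theorem mem_commutator_centralizer {m : ℕ} (hm : 6 ≤ m) (v : alternatingGroup (Fin m))
    (hv : orderOf v = 2) :
    v ∈ ⁅Subgroup.centralizer ({v} : Set (alternatingGroup (Fin m))),
      Subgroup.centralizer ({v} : Set (alternatingGroup (Fin m)))⁆ := by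
  classical
  set M := ⁅Subgroup.centralizer ({v} : Set (alternatingGroup (Fin m))),
      Subgroup.centralizer ({v} : Set (alternatingGroup (Fin m)))⁆ with hM
  set p : Perm (Fin m) := v.1 with hp
  have hinv : ∀ x, p (p x) = x := by
    intro x
    have := congrArg (fun z : alternatingGroup (Fin m) => z.1 x) (hv ▸ pow_orderOf_eq_one v)
    simpa [pow_two] using this
  -- the double transpositions of `v`
  have hd : ∀ a c, p a ≠ a → p c ≠ c → c ≠ a → c ≠ p a →
      ∀ h : swap a (p a) * swap c (p c) ∈ alternatingGroup (Fin m),
        (⟨_, h⟩ : alternatingGroup (Fin m)) ∈ M := by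
    intro a c ha hc hca hcb h
    have hb : p (p a) = a := hinv a
    have he : p (p c) = c := hinv c
    have hac' : a ≠ p c := fun e => hcb (by rw [e, he])
    have hbe : p a ≠ p c := fun e => hca (p.injective e).symm
    set four : Finset (Fin m) := {a, p a, c, p c} with hfour
    -- a further transposition commuting with `v`
    obtain ⟨x, hxF, y, hyF, hxy, hyx⟩ : ∃ x, x ∉ four ∧ ∃ y, y ∉ four ∧ x ≠ y ∧
        p * swap x y = swap x y * p := by
      by_cases hall : ∀ x, x ∉ four → p x = x
      · have hcard : 1 < fourᶜ.card := by
          have : four.card ≤ 4 := Finset.card_le_four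
          rw [Finset.card_compl, Fintype.card_fin]
          omega
        obtain ⟨x, hx, y, hy, hxy⟩ := Finset.one_lt_card.mp hcard
        rw [Finset.mem_compl] at hx hy
        refine ⟨x, hx, y, hy, hxy, ?_⟩
        rw [Equiv.mul_swap_eq_swap_mul, hall x hx, hall y hy]
      · push Not at hall
        obtain ⟨x, hxF, hx⟩ := hall
        refine ⟨x, hxF, p x, ?_, (Ne.symm hx), ?_⟩
        · intro hmem
          apply hxF
          simp only [hfour, Finset.mem_insert, Finset.mem_singleton] at hmem ⊢
          rcases hmem with e | e | e | e
          · right; left; rw [← e, hinv]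
          · left; exact p.injective e
          · right; right; right; rw [← e, hinv]
          · right; right; left; exact p.injective e
        · rw [Equiv.mul_swap_eq_swap_mul, hinv, swap_comm]
    simp only [hfour, Finset.mem_insert, Finset.mem_singleton, not_or] at hxF hyF
    obtain ⟨hxa, hxb, hxc, hxe⟩ := hxF
    obtain ⟨hya, hyb, hyc, hye⟩ := hyF
    have hs : (swap a c * swap (p a) (p c)) ∈ alternatingGroup (Fin m) := by
      rw [mem_alternatingGroup, map_mul, sign_swap (Ne.symm hca), sign_swap hbe]; decide
    have ht : (swap a (p a) * swap x y) ∈ alternatingGroup (Fin m) := by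
      rw [mem_alternatingGroup, map_mul, sign_swap (Ne.symm ha), sign_swap hxy]; decide
    have hsc : (⟨_, hs⟩ : alternatingGroup (Fin m)) ∈ Subgroup.centralizer ({v} : Set _) := by
      rw [Subgroup.mem_centralizer_singleton_iff]
      apply Subtype.ext
      change swap a c * swap (p a) (p c) * p = p * (swap a c * swap (p a) (p c))
      rw [← mul_assoc p, Equiv.mul_swap_eq_swap_mul p, mul_assoc _ p,
        Equiv.mul_swap_eq_swap_mul p, hb, he, ← mul_assoc]
      congr 1
      refine (Equiv.Perm.disjoint_iff_disjoint_support.mpr ?_).commute.eq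
      rw [support_swap (Ne.symm hca), support_swap hbe]
      simp [Finset.disjoint_left, hca, Ne.symm hca, ha, Ne.symm ha, hc, Ne.symm hc, hac',
        Ne.symm hac', hcb, Ne.symm hcb]
    have htc : (⟨_, ht⟩ : alternatingGroup (Fin m)) ∈ Subgroup.centralizer ({v} : Set _) := by
      rw [Subgroup.mem_centralizer_singleton_iff]
      apply Subtype.ext
      change swap a (p a) * swap x y * p = p * (swap a (p a) * swap x y)
      rw [← mul_assoc p, Equiv.mul_swap_eq_swap_mul p, hb, swap_comm (p a) a, mul_assoc _ p, hyx,
        ← mul_assoc]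
    have hcom := Subgroup.commutator_mem_commutator hsc htc
    rw [← hM] at hcom
    convert hcom using 1
    apply Subtype.ext
    change swap a (p a) * swap c (p c) = swap a c * swap (p a) (p c) * (swap a (p a) * swap x y) *
        (swap a c * swap (p a) (p c))⁻¹ * (swap a (p a) * swap x y)⁻¹
    have hxy' : (swap a c * swap (p a) (p c)) * swap x y =
        swap x y * (swap a c * swap (p a) (p c)) := by
      refine (Commute.mul_left ?_ ?_).eq <;>
        refine (Equiv.Perm.disjoint_iff_disjoint_support.mpr ?_).commute
      · rw [support_swap (Ne.symm hca), support_swap hxy]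
        simp [Finset.disjoint_left, Ne.symm hxa, Ne.symm hya, Ne.symm hxc, Ne.symm hyc]
      · rw [support_swap hbe, support_swap hxy]
        simp [Finset.disjoint_left, Ne.symm hxb, Ne.symm hyb, Ne.symm hxe, Ne.symm hye]
    have hab' : (swap a c * swap (p a) (p c)) * swap a (p a) =
        swap c (p c) * (swap a c * swap (p a) (p c)) := by
      rw [Equiv.mul_swap_eq_swap_mul]
      congr 1
      simp [Equiv.swap_apply_of_ne_of_ne, ha, Ne.symm ha, hac', hbe, Ne.symm hcb, hc, Ne.symm hac']
    calc swap a (p a) * swap c (p c) = swap c (p c) * swap a (p a) := by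
          refine ((Equiv.Perm.disjoint_iff_disjoint_support.mpr ?_).commute).eq
          rw [support_swap (Ne.symm ha), support_swap (Ne.symm hc)]
          simp [Finset.disjoint_left, Ne.symm hca, hac', Ne.symm hcb, hbe]
      _ = swap c (p c) * swap x y * (swap x y)⁻¹ * (swap a (p a))⁻¹ := by simp
      _ = swap c (p c) * (swap x y * (swap a c * swap (p a) (p c))) *
            (swap a c * swap (p a) (p c))⁻¹ * (swap x y)⁻¹ * (swap a (p a))⁻¹ := by group
      _ = swap c (p c) * ((swap a c * swap (p a) (p c)) * swap x y) *
            (swap a c * swap (p a) (p c))⁻¹ * (swap x y)⁻¹ * (swap a (p a))⁻¹ := by rw [hxy']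
      _ = (swap a c * swap (p a) (p c)) * swap a (p a) * swap x y *
            (swap a c * swap (p a) (p c))⁻¹ * (swap x y)⁻¹ * (swap a (p a))⁻¹ := by
          rw [hab']; group
      _ = _ := by group
  -- every even part of `v` lies in the subgroup
  have key : ∀ n, ∀ w : alternatingGroup (Fin m), (∀ x, w.1 x = x ∨ w.1 x = p x) →
      w.1.support.card ≤ n → w ∈ M := by
    intro n
    induction n with
    | zero =>
      intro w _ hn
      have h1 : w.1.support = ∅ := Finset.card_eq_zero.mp (Nat.le_zero.mp hn)
      rw [support_eq_empty_iff] at h1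
      rw [show w = 1 from Subtype.ext h1]
      exact one_mem _
    | succ n ih =>
      intro w hw hn
      by_cases h1 : w.1 = 1
      · rw [show w = 1 from Subtype.ext h1]
        exact one_mem _
      obtain ⟨a, ha⟩ : ∃ a, w.1 a ≠ a := by
        by_contra! h
        exact h1 (Equiv.ext h)
      have hwa : w.1 a = p a := (hw a).resolve_left ha
      have hpa : p a ≠ a := hwa ▸ ha
      obtain ⟨c, hc, hca, hcb⟩ : ∃ c, w.1 c ≠ c ∧ c ≠ a ∧ c ≠ p a := by
        by_contra! h
        have heq : w.1 = swap a (p a) := by
          refine Equiv.ext fun x => ?_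
          by_cases hxa : x = a
          · subst hxa; rw [swap_apply_left]; exact hwa
          by_cases hxb : x = p a
          · subst hxb
            rw [swap_apply_right]
            refine ((hw (p a)).resolve_left fun e => ?_).trans (hinv a)
            exact hxa (w.1.injective (e.trans hwa.symm))
          · rw [swap_apply_of_ne_of_ne hxa hxb]
            by_contra hx
            exact hxb (h x hx hxa)
        have := mem_alternatingGroup.mp w.2
        rw [heq, sign_swap (Ne.symm hpa)] at this
        exact absurd this (by decide)
      have hwc : w.1 c = p c := (hw c).resolve_left hc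
      have hpc : p c ≠ c := hwc ▸ hc
      have hmem : swap a (p a) * swap c (p c) ∈ alternatingGroup (Fin m) := by
        rw [mem_alternatingGroup, map_mul, sign_swap (Ne.symm hpa), sign_swap (Ne.symm hpc)]; decide
      set d : alternatingGroup (Fin m) := ⟨_, hmem⟩ with hd'
      have hback : ∀ x, w.1 x ≠ x → w.1 (p x) = x := by
        intro x hx
        have hwx : w.1 x = p x := (hw x).resolve_left hx
        refine ((hw (p x)).resolve_left fun e => hx ?_).trans (hinv x)
        exact (congrArg w.1 (w.1.injective (e.trans hwx.symm))).symm.trans (e.trans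
          (w.1.injective (e.trans hwx.symm)))
      have hac' : a ≠ p c := fun e => hcb (by rw [e, hinv])
      have hbe : p a ≠ p c := fun e => hca (p.injective e).symm
      have happly : ∀ x, (w * d).1 x = x ∨ ((w * d).1 x = w.1 x ∧
          x ≠ a ∧ x ≠ p a ∧ x ≠ c ∧ x ≠ p c) := by
        intro x
        change w.1 (swap a (p a) (swap c (p c) x)) = x ∨ _
        by_cases hxc : x = c
        · subst hxc
          left
          rw [swap_apply_left, swap_apply_of_ne_of_ne (Ne.symm hac') (Ne.symm hbe), hback x hc]
        by_cases hxe : x = p c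
        · subst hxe
          left
          rw [swap_apply_right, swap_apply_of_ne_of_ne hca hcb, hwc]
        rw [swap_apply_of_ne_of_ne hxc hxe]
        by_cases hxa : x = a
        · subst hxa
          left
          rw [swap_apply_left, hback x ha]
        by_cases hxb : x = p a
        · subst hxb
          left
          rw [swap_apply_right, hwa]
        right
        exact ⟨by change w.1 (swap a (p a) (swap c (p c) x)) = w.1 x
                  rw [swap_apply_of_ne_of_ne hxc hxe, swap_apply_of_ne_of_ne hxa hxb],
          hxa, hxb, hxc, hxe⟩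
      have hlt : (w * d).1.support.card < w.1.support.card := by
        refine Finset.card_lt_card ⟨fun x hx => ?_, fun hsub => ?_⟩
        · rw [mem_support] at hx ⊢
          rcases happly x with e | ⟨e, -⟩
          · exact absurd e hx
          · rwa [← e]
        · have hA := hsub (mem_support.mpr ha)
          rw [mem_support] at hA
          rcases happly a with e | ⟨-, e, -⟩
          · exact hA e
          · exact e rfl
      have hwd := ih (w * d) (fun x => by
        rcases happly x with e | ⟨e, -⟩
        · exact Or.inl e
        · rw [e]; exact hw x) (by omega)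
      have hdM : d ∈ M := hd a c hpa hpc hca hcb hmem
      have := M.mul_mem hwd (M.inv_mem hdM)
      rwa [mul_inv_cancel_right] at this
  exact key _ v (fun x => Or.inr rfl) le_rfl

end CfsgLib.CentTwoAlt
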