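import Cfsg.Agent.Lib.CentTwoAlt.Core

/-!
# Degree five: the group is simple with centralizer `Z₂ × A₅`
-/

namespace CfsgLib.CentTwoAlt.Hyp

variable {G : Type*} [Group G] [Finite G] (H : Hyp G)

theorem exists_centEquiv_five (h5 : H.m = 5) :
    IsSimpleGroup G ∧
      Nonempty (H.cent ≃* Multiplicative (ZMod 2) × alternatingGroup (Fin 5)) := by
  haveI := Fact.mk Nat.prime_two
  have e' : H.T ≃* alternatingGroup (Fin 5) :=
    H.e.trans (by rw [h5])
  haveI : IsSimpleGroup (alternatingGroup (Fin 5)) := alternatingGroup.isSimpleGroup (by simp)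
  haveI : IsSimpleGroup H.T := e'.isSimpleGroup
  -- the centralizer lies in the core
  have hT : H.T ≤ H.core := by
    rcases (inferInstance : (H.core.subgroupOf H.T).Normal).eq_bot_or_eq_top with h | h
    · exfalso
      haveI : Nontrivial ↥((H.P : Subgroup G) ⊓ H.T) :=
        Finite.one_lt_card_iff_nontrivial.mp (by rw [H.card_Q]; norm_num)
      obtain ⟨a, ha⟩ := exists_ne (1 : ↥((H.P : Subgroup G) ⊓ H.T))
      have hm : (⟨a.1, a.2.2⟩ : H.T) ∈ H.core.subgroupOf H.T := H.P_le_core a.2.1
      rw [h, Subgroup.mem_bot] at hm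
      exact ha (Subtype.ext (show a.1 = 1 by simpa using congrArg Subtype.val hm))
    · exact Subgroup.subgroupOf_eq_top.mp h
  have htop : H.core = ⊤ := by
    have hc : H.cent ≤ H.core := by
      rw [show H.cent = Subgroup.zpowers H.J ⊔ H.T from H.hd.2.2.2.2.symm]
      exact sup_le (Subgroup.zpowers_le.mpr H.J_mem_core) hT
    have := H.core_sup_cent
    rwa [sup_eq_left.mpr hc] at this
  refine ⟨?_, ?_⟩
  · haveI := H.isSimple_core
    exact ((MulEquiv.subgroupCongr htop).trans Subgroup.topEquiv).symm.isSimpleGroup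
  · haveI : Fact (Nat.card (Subgroup.zpowers H.J)).Prime := ⟨by rw [H.card_zpowers_J]; norm_num⟩
    exact ⟨H.centEquiv.symm.trans (MulEquiv.prodCongr
      (mulEquivOfPrimeCardEq H.card_zpowers_J (by simp)) e')⟩

end CfsgLib.CentTwoAlt.Hyp
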