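import Cfsg.Agent.Lib.CentTwoAlt.Core
import Cfsg.Agent.S3189
import Cfsg.Agent.S1230
import Cfsg.Agent.S0813
import Cfsg.Agent.Lib.Classical.Card

/-!
# Degree four: the automorphism group of `PSL(2, 8)`
-/

namespace CfsgLib.CentTwoAlt

theorem isSolvable_alt_four : Group.IsSolvable (alternatingGroup (Fin 4)) := by
  set A := alternatingGroup (Fin 4)
  let V : Subgroup A :=
    { carrier := {x | x * x = 1}
      one_mem' := mul_one 1
      mul_mem' := fun {a b} ha hb => by
        change a * b * (a * b) = 1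
        have hab := four_commute a b ⟨hb, ha⟩
        calc a * b * (a * b) = a * (b * a) * b := by group
          _ = a * (a * b) * b := by rw [hab]
          _ = (a * a) * (b * b) := by group
          _ = 1 := by rw [show a * a = 1 from ha, show b * b = 1 from hb, one_mul]
      inv_mem' := fun {a} ha => by
        change a⁻¹ * a⁻¹ = 1
        rw [← mul_inv_rev, show a * a = 1 from ha, inv_one] }
  haveI : V.Normal := ⟨fun a ha g => by
    change g * a * g⁻¹ * (g * a * g⁻¹) = 1
    calc _ = g * (a * a) * g⁻¹ := by group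
      _ = 1 := by rw [show a * a = 1 from ha]; group⟩
  haveI : Group.IsSolvable V :=
    Group.isSolvable_of_comm fun a b => Subtype.ext (four_commute a.1 b.1 ⟨b.2, a.2⟩)
  have hcomm : ∀ a b : A, a * b * a⁻¹ * b⁻¹ * (a * b * a⁻¹ * b⁻¹) = 1 := by
    decide +kernel
  haveI : Group.IsSolvable (A ⧸ V) := Group.isSolvable_of_comm (by
    intro a b
    induction a using QuotientGroup.induction_on with | _ a => ?_
    induction b using QuotientGroup.induction_on with | _ b => ?_
    rw [← QuotientGroup.mk_mul, ← QuotientGroup.mk_mul, QuotientGroup.eq]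
    change (a * b)⁻¹ * (b * a) * ((a * b)⁻¹ * (b * a)) = 1
    have := hcomm b⁻¹ a⁻¹
    simpa [mul_assoc] using this)
  exact Group.isSolvable_of_ker_le_range V.subtype (QuotientGroup.mk' V)
    (by rw [QuotientGroup.ker_mk', Subgroup.range_subtype])

namespace Hyp

variable {G : Type*} [Group G] [Finite G] (H : Hyp G)

omit [Finite G] in
theorem fourEquiv (h4 : H.m = 4) : Nonempty (H.T ≃* alternatingGroup (Fin 4)) :=
  ⟨H.e.trans (by rw [h4])⟩

omit [Finite G] in
theorem sq_eq {c : G} (hc : c ∈ H.cent) : H.J * c * (H.J * c) = c * c := by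
  have h := Subgroup.mem_centralizer_singleton_iff.mp hc
  calc H.J * c * (H.J * c) = H.J * (c * H.J) * c := by group
    _ = H.J * (H.J * c) * c := by rw [h]
    _ = (H.J * H.J) * (c * c) := by group
    _ = c * c := by rw [H.J_sq, one_mul]

/-- An element of square one of the centralizer lies in the Sylow subgroup. -/
theorem mem_P_of_sq (h4 : H.m = 4) {c : G} (hc : c ∈ H.cent) (hcc : c * c = 1) :
    c ∈ (H.P : Subgroup G) := by
  haveI := Fact.mk Nat.prime_two
  obtain ⟨e⟩ := H.fourEquiv h4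
  have hT : ∀ t s : G, t ∈ H.T → s ∈ H.T → t * t = 1 → s * s = 1 → t * s = s * t := by
    intro t s ht hs htt hss
    have := four_commute (e ⟨t, ht⟩) (e ⟨s, hs⟩)
      ⟨by rw [← map_mul, show (⟨s, hs⟩ : H.T) * ⟨s, hs⟩ = 1 from Subtype.ext hss, map_one],
        by rw [← map_mul, show (⟨t, ht⟩ : H.T) * ⟨t, ht⟩ = 1 from Subtype.ext htt, map_one]⟩
    rw [← map_mul, ← map_mul] at this
    exact congrArg Subtype.val (e.injective this)
  have hCc : ∀ a ∈ H.cent, a * a = 1 → ∀ b ∈ H.cent, b * b = 1 → a * b = b * a := by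
    intro a ha haa b hb hbb
    have key : ∀ z ∈ H.cent, z * z = 1 → ∃ t ∈ H.T, t * t = 1 ∧ (z = t ∨ z = H.J * t) := by
      intro z hz hzz
      rcases H.decomp hz with h | h
      · exact ⟨z, h, hzz, Or.inl rfl⟩
      · exact ⟨H.J * z, h, (H.sq_eq hz).trans hzz, Or.inr (by rw [← mul_assoc, H.J_sq, one_mul])⟩
    obtain ⟨t, ht, htt, h1⟩ := key a ha haa
    obtain ⟨s, hs, hss, h2⟩ := key b hb hbb
    have c1 : Commute t s := hT t s ht hs htt hss
    have c2 : Commute H.J t := H.J_comm ht
    have c3 : Commute H.J s := H.J_comm hs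
    rcases h1 with rfl | rfl <;> rcases h2 with rfl | rfl
    · exact c1
    · exact (c2.symm.mul_right c1).eq
    · exact (c3.mul_left c1).eq
    · exact (((Commute.refl H.J).mul_right c3).mul_left (c2.symm.mul_right c1)).eq
  let K : Subgroup G :=
    { carrier := {x | x ∈ H.cent ∧ x * x = 1}
      one_mem' := ⟨H.cent.one_mem, mul_one 1⟩
      mul_mem' := fun {a b} ha hb => ⟨H.cent.mul_mem ha.1 hb.1, by
        calc a * b * (a * b) = a * (b * a) * b := by group
          _ = a * (a * b) * b := by rw [hCc b hb.1 hb.2 a ha.1 ha.2]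
          _ = (a * a) * (b * b) := by group
          _ = 1 := by rw [ha.2, hb.2, one_mul]⟩
      inv_mem' := fun {a} ha => ⟨H.cent.inv_mem ha.1, by rw [← mul_inv_rev, ha.2, inv_one]⟩ }
  have hp : IsPGroup 2 K := fun a => ⟨1, Subtype.ext (by simpa [pow_two] using a.2.2)⟩
  have hle : (H.P : Subgroup G) ≤ K := fun x hx => ⟨H.hPC hx, H.P_sq hx⟩
  exact (H.P.is_maximal' hp hle) ▸ (show c ∈ K from ⟨hc, hcc⟩)

/-- The Sylow subgroup is self-centralizing. -/
theorem mem_P_of_commute (h4 : H.m = 4) {c : G}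
    (hc : ∀ x ∈ (H.P : Subgroup G), c * x = x * c) : c ∈ (H.P : Subgroup G) := by
  obtain ⟨e⟩ := H.fourEquiv h4
  have hcC : c ∈ H.cent := Subgroup.mem_centralizer_singleton_iff.mpr (hc _ H.hJP)
  refine H.mem_P_of_sq h4 hcC ?_
  haveI : Nontrivial ↥((H.P : Subgroup G) ⊓ H.T) :=
    Finite.one_lt_card_iff_nontrivial.mp (by rw [H.card_Q]; norm_num)
  obtain ⟨a, ha⟩ := exists_ne (1 : ↥((H.P : Subgroup G) ⊓ H.T))
  have key : ∀ t : G, t ∈ H.T → t * a.1 = a.1 * t → t * t = 1 := by
    intro t ht hta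
    have h := four_sq_of_commute (e ⟨t, ht⟩) (e ⟨a.1, a.2.2⟩) ⟨?_, ?_, ?_⟩
    · rw [← map_mul] at h
      exact congrArg Subtype.val (e.map_eq_one_iff.mp h)
    · rw [← map_mul, show (⟨a.1, a.2.2⟩ : H.T) * ⟨a.1, a.2.2⟩ = 1 from Subtype.ext (H.Q_sq a.2),
        map_one]
    · exact fun he => ha (Subtype.ext (by
        have := congrArg Subtype.val (e.map_eq_one_iff.mp he)
        simpa using this))
    · rw [← map_mul, ← map_mul]
      exact congrArg e (Subtype.ext hta)
  rcases H.decomp hcC with h | h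
  · exact key c h (hc _ a.2.1)
  · rw [← H.sq_eq hcC]
    refine key _ h ?_
    calc H.J * c * a.1 = H.J * (c * a.1) := mul_assoc ..
      _ = H.J * (a.1 * c) := by rw [hc _ a.2.1]
      _ = (H.J * a.1) * c := by group
      _ = (a.1 * H.J) * c := by rw [H.J_comm a.2.2]
      _ = _ := mul_assoc ..

theorem pow_six (h4 : H.m = 4) {c : G} (hc : c ∈ H.cent) : c ^ 6 = 1 := by
  obtain ⟨e⟩ := H.fourEquiv h4
  have key : ∀ t, t ∈ H.T → t ^ 6 = 1 := by
    intro t ht
    have h := four_pow_six (e ⟨t, ht⟩)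
    rw [← map_pow] at h
    simpa using congrArg Subtype.val (e.map_eq_one_iff.mp h)
  rcases H.decomp hc with h | h
  · exact key c h
  · have hJc : c = H.J * (H.J * c) := by rw [← mul_assoc, H.J_sq, one_mul]
    rw [hJc, (show Commute H.J (H.J * c) from H.J_comm h).mul_pow, key _ h, mul_one,
      show (6 : ℕ) = 2 * 3 from rfl, pow_mul, pow_two, H.J_sq, one_pow]

theorem automizer_seven (h4 : H.m = 4) :
    Nat.card (EightSylow.act H.coreSylow).range = 7 := by
  haveI := H.isSimple_core
  have hTsol : Group.IsSolvable H.cent := by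
    obtain ⟨e⟩ := H.fourEquiv h4
    haveI := isSolvable_alt_four
    haveI : Group.IsSolvable (Subgroup.zpowers H.J) :=
      Group.isSolvable_of_comm fun a b => Subtype.ext (by
        obtain ⟨i, hi⟩ := Subgroup.mem_zpowers_iff.mp a.2
        obtain ⟨j, hj⟩ := Subgroup.mem_zpowers_iff.mp b.2
        rw [Subgroup.coe_mul, Subgroup.coe_mul, ← hi, ← hj, ← zpow_add, ← zpow_add, add_comm])
    haveI : Group.IsSolvable H.T :=
      Group.isSolvable_of_isSolvable_injective (f := e.toMonoidHom) e.injective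
    exact Group.isSolvable_of_isSolvable_injective (f := H.centEquiv.symm.toMonoidHom)
      H.centEquiv.symm.injective
  rw [EightSylow.card_act_range]
  refine Cfsg.Agent.S3189.result H.core_not_comm H.coreSylow H.coreSylow_elementary
    H.card_coreSylow fun t ht => ?_
  obtain ⟨g, hg⟩ := H.conj_J (x := (t : G)) (by rw [Subgroup.orderOf_coe, ht])
  haveI := hTsol
  let f : Subgroup.centralizer ({t} : Set H.core) →* H.cent :=
    ((MulAut.conj g⁻¹).toMonoidHom.comp
      (H.core.subtype.comp (Subgroup.centralizer ({t} : Set H.core)).subtype)).codRestrict H.cent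
      fun c => by
        rw [Subgroup.mem_centralizer_singleton_iff]
        have h := congrArg Subtype.val (Subgroup.mem_centralizer_singleton_iff.mp c.2)
        simp only [Subgroup.coe_mul, ← hg] at h
        change g⁻¹ * ((c : H.core) : G) * g⁻¹⁻¹ * H.J = H.J * (g⁻¹ * ((c : H.core) : G) * g⁻¹⁻¹)
        calc g⁻¹ * ((c : H.core) : G) * g⁻¹⁻¹ * H.J
            = g⁻¹ * (((c : H.core) : G) * (g * H.J * g⁻¹)) * g := by group
          _ = g⁻¹ * (g * H.J * g⁻¹ * ((c : H.core) : G)) * g := by rw [h]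
          _ = _ := by group
  refine Group.isSolvable_of_isSolvable_injective (f := f) fun a b hab => Subtype.ext (Subtype.ext ?_)
  exact (MulAut.conj g⁻¹).injective (congrArg Subtype.val hab)

theorem core_cent_le (h4 : H.m = 4) {c : G} (hc : c ∈ H.cent) (hcN : c ∈ H.core) :
    c ∈ (H.P : Subgroup G) := by
  have hconj : ∀ d ∈ H.cent, ∀ x ∈ (H.P : Subgroup G), d * x * d⁻¹ ∈ (H.P : Subgroup G) :=
    fun d hd x hx => H.mem_P_of_sq h4 (H.cent.mul_mem (H.cent.mul_mem hd (H.hPC hx)) (H.cent.inv_mem hd))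
      (by calc d * x * d⁻¹ * (d * x * d⁻¹) = d * (x * x) * d⁻¹ := by group
            _ = 1 := by rw [H.P_sq hx]; group)
  have hn : (⟨c, hcN⟩ : H.core) ∈
      Subgroup.normalizer ((H.coreSylow : Subgroup H.core) : Set H.core) := by
    rw [Subgroup.mem_normalizer_iff]
    intro x
    rw [H.mem_coreSylow, H.mem_coreSylow]
    constructor
    · exact fun hx => hconj c hc _ hx
    · intro hx
      have h := hconj c⁻¹ (H.cent.inv_mem hc) _ hx
      rwa [show c⁻¹ * (((⟨c, hcN⟩ : H.core) * x * (⟨c, hcN⟩ : H.core)⁻¹ : H.core) : G) * c⁻¹⁻¹ = x by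
        simp only [Subgroup.coe_mul, InvMemClass.coe_inv]; group] at h
  set a := EightSylow.act H.coreSylow ⟨_, hn⟩ with ha
  have h7 : a ^ 7 = 1 := by
    have := pow_card_eq_one' (x := (⟨a, ⟨_, rfl⟩⟩ : (EightSylow.act H.coreSylow).range))
    rw [H.automizer_seven h4] at this
    simpa using congrArg Subtype.val this
  have h6 : a ^ 6 = 1 := by
    rw [ha, ← map_pow]
    refine (congrArg (EightSylow.act H.coreSylow) (Subtype.ext (Subtype.ext ?_))).trans (map_one _)
    simpa using H.pow_six h4 hc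
  have h1 : a = 1 := by
    rw [show (7 : ℕ) = 6 + 1 from rfl, pow_succ, h6, one_mul] at h7
    exact h7
  refine H.mem_P_of_commute h4 fun x hx => ?_
  have h := congrArg (fun z : MulAut ↥(H.coreSylow : Subgroup H.core) =>
    (((z ⟨⟨x, H.P_le_core hx⟩, H.mem_coreSylow.mpr hx⟩) : H.core) : G)) h1
  simp only [ha, EightSylow.act_apply, MulAut.one_apply, Subgroup.coe_mul, InvMemClass.coe_inv] at h
  exact mul_inv_eq_iff_eq_mul.mp h

theorem exists_equiv_four (h4 : H.m = 4) :
    ∃ (F : Type) (_ : Field F) (_ : Fintype F), Fintype.card F = 8 ∧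
      Nonempty (G ≃* MulAut (Matrix.ProjectiveSpecialLinearGroup (Fin 2) F)) := by
  haveI := Fact.mk Nat.prime_two
  haveI := H.isSimple_core
  have hnc : ¬ IsCyclic (H.coreSylow : Subgroup H.core) := by
    intro h
    obtain ⟨a, ha⟩ := h.exists_generator
    have h8 := orderOf_eq_card_of_forall_mem_zpowers ha
    rw [H.card_coreSylow] at h8
    have h2 : a ^ 2 = 1 := Subtype.ext (by simpa using H.coreSylow_elementary.2 a.1 a.2)
    have := Nat.le_of_dvd two_pos (orderOf_dvd_of_pow_eq_one h2)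
    omega
  have hnn : ¬ (H.coreSylow : Subgroup H.core).Normal := by
    intro h
    rcases h.eq_bot_or_eq_top with h' | h'
    · have := H.card_coreSylow
      rw [h', Subgroup.card_bot] at this
      norm_num at this
    · refine H.core_not_comm ⟨⟨fun a b => ?_⟩⟩
      exact congrArg Subtype.val (H.coreSylow_elementary.1.is_comm.comm
        ⟨a, h' ▸ Subgroup.mem_top a⟩ ⟨b, h' ▸ Subgroup.mem_top b⟩)
  have hC : ∀ t : H.core, orderOf t = 2 →
      IsMulCommutative (Subgroup.centralizer ({t} : Set H.core)) ∧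
      ∀ c ∈ Subgroup.centralizer ({t} : Set H.core), c ^ 2 = 1 := by
    intro t ht
    obtain ⟨g, hg⟩ := H.conj_J (x := (t : G)) (by rw [Subgroup.orderOf_coe, ht])
    have hsq : ∀ c ∈ Subgroup.centralizer ({t} : Set H.core), c ^ 2 = 1 := by
      intro c hc
      have h := congrArg Subtype.val (Subgroup.mem_centralizer_singleton_iff.mp hc)
      simp only [Subgroup.coe_mul, ← hg] at h
      have hmem : g⁻¹ * (c : G) * g⁻¹⁻¹ ∈ H.cent := by
        rw [Subgroup.mem_centralizer_singleton_iff]
        calc g⁻¹ * (c : G) * g⁻¹⁻¹ * H.J = g⁻¹ * ((c : G) * (g * H.J * g⁻¹)) * g := by group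
          _ = g⁻¹ * (g * H.J * g⁻¹ * (c : G)) * g := by rw [h]
          _ = _ := by group
      have h2 := H.P_sq (H.core_cent_le h4 hmem ((inferInstance : H.core.Normal).conj_mem _ c.2 g⁻¹))
      refine Subtype.ext ?_
      rw [Subgroup.coe_pow, Subgroup.coe_one, pow_two]
      calc (c : G) * c = g * ((g⁻¹ * (c : G) * g⁻¹⁻¹) * (g⁻¹ * (c : G) * g⁻¹⁻¹)) * g⁻¹ := by group
        _ = 1 := by rw [h2]; group
    refine ⟨⟨⟨fun a b => Subtype.ext ?_⟩⟩, hsq⟩
    have h1 := hsq _ a.2
    have h2 := hsq _ b.2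
    have h3 := hsq _ ((Subgroup.centralizer ({t} : Set H.core)).mul_mem a.2 b.2)
    rw [pow_two] at h1 h2 h3
    change (a : H.core) * b = b * a
    rw [← inv_eq_of_mul_eq_one_right h3, mul_inv_rev, inv_eq_of_mul_eq_one_right h1,
      inv_eq_of_mul_eq_one_right h2]
  obtain ⟨F, iF, fF, hF, ⟨φ⟩⟩ := Cfsg.Agent.S1230.result H.coreSylow hnc hnn hC
  have hF8 : Fintype.card F = 8 := hF.trans H.card_coreSylow
  refine ⟨F, iF, fF, hF8, ?_⟩
  -- the orders
  have hcore : Nat.card H.core = 504 := by
    rw [Nat.card_congr φ.toEquiv]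
    have := CfsgLib.Classical.card_PSL_two (F := F)
    rw [hF8] at this
    norm_num at this
    exact this
  have hint : Nat.card ↥(H.core ⊓ H.cent) = 8 := by
    have : H.core ⊓ H.cent = (H.P : Subgroup G) := le_antisymm
      (fun c hc => H.core_cent_le h4 hc.2 hc.1) (le_inf H.P_le_core H.hPC)
    rw [this, H.card_P]
  have hidx : H.core.index = 3 := by
    have h1 : H.core.relIndex (H.cent ⊔ H.core) = H.core.relIndex H.cent :=
      Subgroup.relIndex_sup_right H.cent H.core
    rw [sup_comm, H.core_sup_cent, Subgroup.relIndex_top_right] at h1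
    have h2 := Subgroup.card_mul_index ((H.core ⊓ H.cent).subgroupOf H.cent)
    rw [Nat.card_congr (Subgroup.subgroupOfEquivOfLe inf_le_right).toEquiv, hint, H.card_C,
      H.card_T.1 h4, Subgroup.inf_subgroupOf_right] at h2
    rw [h1, Subgroup.relIndex]
    omega
  have hG : Nat.card G = 1512 := by
    rw [← Subgroup.card_mul_index H.core, hcore, hidx]
  have hAut : Nat.card (MulAut (Matrix.ProjectiveSpecialLinearGroup (Fin 2) F)) = 1512 := by
    rw [Cfsg.Agent.S0813.result 2 3 (by norm_num) (by rw [hF8]; norm_num) 2 le_rfl (fun _ => by norm_num),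
      CfsgLib.Classical.card_PGL_eq_card_SL, CfsgLib.Classical.card_SL_two, hF8, if_pos rfl]
    all_goals norm_num
  -- the faithful action on the core
  have hinj : Function.Injective (MulAut.conjNormal : G →* MulAut H.core) := by
    rw [← MonoidHom.ker_eq_bot_iff]
    by_contra hk
    set K := (MulAut.conjNormal : G →* MulAut H.core).ker with hKdef
    have heven : 2 ∣ Nat.card K := by
      by_contra h
      exact hk (H.odd_normal_bot K inferInstance
        (Nat.not_even_iff_odd.mp fun e => h (even_iff_two_dvd.mp e)))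
    obtain ⟨z, hz⟩ := exists_prime_orderOf_dvd_card' 2 heven
    have hle := H.core_le (M := K) inferInstance (x := (z : G)) (by rw [Subgroup.orderOf_coe, hz]) z.2
    refine H.core_not_comm ⟨⟨fun a b => ?_⟩⟩
    have ha := DFunLike.congr_fun (MonoidHom.mem_ker.mp (hle a.2)) b
    have := congrArg Subtype.val ha
    rw [MulAut.conjNormal_apply, MulAut.one_apply] at this
    exact Subtype.ext (mul_inv_eq_iff_eq_mul.mp this)
  let Φ : G →* MulAut (Matrix.ProjectiveSpecialLinearGroup (Fin 2) F) :=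
    (MulAut.congr φ).toMonoidHom.comp MulAut.conjNormal
  have hΦ : Function.Bijective Φ :=
    (Nat.bijective_iff_injective_and_card _).mpr
      ⟨(MulAut.congr φ).injective.comp hinj, hG.trans hAut.symm⟩
  exact ⟨MulEquiv.ofBijective Φ hΦ⟩

end Hyp

end CfsgLib.CentTwoAlt
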