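import Mathlib
import Cfsg.Prelude.Def_TwoFusion
import Cfsg.Prelude.Def_Transfer
import Cfsg.Agent.Lib.Transfer.Thompson
import Cfsg.Agent.Lib.CentTwoAlt.Facts

/-!
# A two-central involution with centralizer `Z₂ × A_m`

The degree is four or five, the involutions are conjugate, there is no normal subgroup of odd
order, and the subgroup generated by the involutions is simple.
-/

namespace CfsgLib.CentTwoAlt

/-- The hypotheses. -/
structure Hyp (G : Type*) [Group G] where
  J : G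
  T : Subgroup G
  m : ℕ
  e : ↥T ≃* ↥(alternatingGroup (Fin m))
  P : Sylow 2 G
  hns : ¬ Group.IsSolvable G
  h2 : ∀ N : Subgroup G, N.Normal → N.index ≠ 2
  hJ : orderOf J = 2
  hJP : J ∈ (P : Subgroup G)
  hPC : (P : Subgroup G) ≤ Subgroup.centralizer ({J} : Set G)
  hd : Cfsg.IsInternalDirectProduct (Subgroup.zpowers J) T (Subgroup.centralizer ({J} : Set G))

theorem orderOf_two_of_sq {G : Type*} [Group G] {x : G} (h : x * x = 1) (h1 : x ≠ 1) :
    orderOf x = 2 :=
  haveI := Fact.mk Nat.prime_two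
  orderOf_eq_prime (by rw [pow_two, h]) h1

namespace Hyp

open scoped commutatorElement

variable {G : Type*} [Group G] (H : Hyp G)

/-- The centralizer of the involution. -/
abbrev cent : Subgroup G := Subgroup.centralizer ({H.J} : Set G)

theorem J_ne : H.J ≠ 1 := fun e => by have := H.hJ; rw [e, orderOf_one] at this; norm_num at this

theorem J_sq : H.J * H.J = 1 := Transfer.sq_eq_one_of_orderOf_eq_two H.hJ

theorem J_notMem : H.J ∉ H.T := fun h =>
  H.J_ne (Subgroup.mem_bot.mp (H.hd.2.2.2.1 ▸ ⟨Subgroup.mem_zpowers H.J, h⟩))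

theorem T_le : H.T ≤ H.cent := H.hd.2.1

theorem J_comm {t : G} (ht : t ∈ H.T) : H.J * t = t * H.J :=
  H.hd.2.2.1 _ (Subgroup.mem_zpowers H.J) _ ht

/-- The product map. -/
noncomputable def prodHom : ↥(Subgroup.zpowers H.J) × ↥H.T →* G :=
  MonoidHom.noncommCoprod (Subgroup.zpowers H.J).subtype H.T.subtype
    fun a b => H.hd.2.2.1 _ a.2 _ b.2

theorem prodHom_range : H.prodHom.range = H.cent := by
  refine (MonoidHom.noncommCoprod_range _ _ _).trans ?_
  rw [Subgroup.range_subtype, Subgroup.range_subtype]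
  exact H.hd.2.2.2.2

theorem prodHom_injective : Function.Injective H.prodHom := by
  refine (MonoidHom.noncommCoprod_injective _ _ _).mpr ⟨Subgroup.subtype_injective _, Subgroup.subtype_injective _, ?_⟩
  rw [Subgroup.range_subtype, Subgroup.range_subtype, disjoint_iff]
  exact H.hd.2.2.2.1

/-- The centralizer as a product. -/
noncomputable def centEquiv : ↥(Subgroup.zpowers H.J) × ↥H.T ≃* ↥H.cent :=
  (MonoidHom.ofInjective H.prodHom_injective).trans (MulEquiv.subgroupCongr H.prodHom_range)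

theorem decomp {c : G} (hc : c ∈ H.cent) : c ∈ H.T ∨ H.J * c ∈ H.T := by
  rw [← H.prodHom_range] at hc
  obtain ⟨⟨a, b⟩, rfl⟩ := hc
  obtain ⟨k, hk⟩ := Subgroup.mem_zpowers_iff.mp a.2
  change a.1 * b.1 ∈ H.T ∨ H.J * (a.1 * b.1) ∈ H.T
  rw [← hk]
  rcases Int.even_or_odd k with ⟨j, rfl⟩ | ⟨j, rfl⟩
  · left
    rw [← two_mul, zpow_mul, zpow_two, H.J_sq, one_zpow, one_mul]
    exact b.2
  · right
    rw [zpow_add, zpow_mul, zpow_two, H.J_sq, one_zpow, one_mul, zpow_one, ← mul_assoc, H.J_sq,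
      one_mul]
    exact b.2

theorem commutator_le : ⁅H.cent, H.cent⁆ ≤ H.T := by
  rw [Subgroup.commutator_le]
  have key : ∀ a ∈ H.cent, ∃ t ∈ H.T, ∀ x ∈ H.cent, a * x * a⁻¹ = t * x * t⁻¹ := by
    intro a ha
    rcases H.decomp ha with h | h
    · exact ⟨a, h, fun x _ => rfl⟩
    · refine ⟨H.J * a, h, fun x hx => ?_⟩
      have h1 := Subgroup.mem_centralizer_singleton_iff.mp ha
      have h2 := Subgroup.mem_centralizer_singleton_iff.mp hx
      have hJa : Commute H.J a := h1.symm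
      have hJx : H.J * (a * x * a⁻¹) = a * x * a⁻¹ * H.J :=
        ((hJa.mul_right (show Commute H.J x from h2.symm)).mul_right hJa.inv_right).eq
      calc a * x * a⁻¹ = (H.J * H.J) * (a * x * a⁻¹) := by rw [H.J_sq, one_mul]
        _ = H.J * (H.J * (a * x * a⁻¹)) := by rw [mul_assoc]
        _ = H.J * (a * x * a⁻¹ * H.J) := by rw [hJx]
        _ = H.J * a * x * (H.J * a)⁻¹ := by
          rw [mul_inv_rev, inv_eq_of_mul_eq_one_right H.J_sq]; group
  intro a ha b hb
  obtain ⟨t, ht, hta⟩ := key a ha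
  obtain ⟨s, hs, hsb⟩ := key b hb
  have h1 : ⁅a, b⁆ = t * (b * t⁻¹ * b⁻¹) := by
    rw [commutatorElement_def, hta b hb]; group
  rw [h1, hsb t⁻¹ (H.T_le (H.T.inv_mem ht))]
  exact H.T.mul_mem ht (H.T.mul_mem (H.T.mul_mem hs (H.T.inv_mem ht)) (H.T.inv_mem hs))

theorem conj_mem_T {c t : G} (hc : c ∈ H.cent) (ht : t ∈ H.T) : c * t * c⁻¹ ∈ H.T := by
  have h := H.commutator_le (Subgroup.commutator_mem_commutator hc (H.T_le ht))
  have := H.T.mul_mem h ht
  rwa [commutatorElement_def, inv_mul_cancel_right] at this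

variable [Finite G]

theorem relIndex_Q : ((H.P : Subgroup G) ⊓ H.T).relIndex (H.P : Subgroup G) = 2 := by
  rw [Subgroup.relIndex, Subgroup.index_eq_two_iff]
  refine ⟨⟨H.J, H.hJP⟩, fun b => ?_⟩
  simp only [Subgroup.mem_subgroupOf, Subgroup.mem_inf, Subgroup.coe_mul]
  have hbC := H.hPC b.2
  have hcomm := Subgroup.mem_centralizer_singleton_iff.mp hbC
  rw [hcomm]
  rcases H.decomp hbC with h | h
  · refine Or.inr ⟨⟨b.2, h⟩, fun h' => H.J_notMem ?_⟩
    have := H.T.mul_mem h'.2 (H.T.inv_mem h)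
    rwa [mul_inv_cancel_right] at this
  · refine Or.inl ⟨⟨(H.P : Subgroup G).mul_mem H.hJP b.2, h⟩, fun h' => H.J_notMem ?_⟩
    have := H.T.mul_mem h (H.T.inv_mem h'.2)
    rwa [mul_inv_cancel_right] at this

/-- By transfer an involution of the Sylow subgroup outside `T` is conjugate into `T`. -/
theorem conj_into_T {x : G} (hx : x ∈ (H.P : Subgroup G)) (hxx : x * x = 1) (hxT : x ∉ H.T) :
    ∃ g : G, g * x * g⁻¹ ∈ (H.P : Subgroup G) ∧ g * x * g⁻¹ ∈ H.T := by
  rcases Transfer.thompson_transfer H.P H.relIndex_Q hxx hx (fun h => hxT h.2) with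
    ⟨M, hM, hi, -⟩ | ⟨g, h1, h2⟩
  · exact absurd hi (H.h2 M hM)
  · exact ⟨g, h1, h2.2⟩

theorem exists_conj_J : ∃ (g : G) (v : alternatingGroup (Fin H.m)),
    orderOf v = 2 ∧ ((H.e.symm v : H.T) : G) = g * H.J * g⁻¹ := by
  obtain ⟨g, -, hg⟩ := H.conj_into_T H.hJP H.J_sq H.J_notMem
  refine ⟨g, H.e ⟨_, hg⟩, ?_, by rw [MulEquiv.symm_apply_apply]⟩
  rw [H.e.orderOf_eq, Subgroup.orderOf_mk]
  exact ((MulAut.conj g).orderOf_eq H.J).trans H.hJ

theorem m_cases : H.m = 4 ∨ H.m = 5 := by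
  obtain ⟨g, v, hv, hg⟩ := H.exists_conj_J
  by_contra hne
  have hm : H.m ≤ 3 ∨ 6 ≤ H.m := by omega
  rcases hm with hm | hm
  · exact no_involution_of_le_three hm v hv
  · set f : alternatingGroup (Fin H.m) →* G :=
      (MulAut.conj g⁻¹).toMonoidHom.comp (H.T.subtype.comp H.e.symm.toMonoidHom) with hf
    have hfv : f v = H.J := by
      change g⁻¹ * ((H.e.symm v : H.T) : G) * g⁻¹⁻¹ = H.J
      rw [hg]; group
    have hle : (Subgroup.centralizer ({v} : Set _)).map f ≤ H.cent := by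
      rintro - ⟨c, hc, rfl⟩
      rw [Subgroup.mem_centralizer_singleton_iff, ← hfv, ← map_mul, ← map_mul,
        Subgroup.mem_centralizer_singleton_iff.mp hc]
    have h1 := Subgroup.mem_map_of_mem f (mem_commutator_centralizer hm v hv)
    rw [Subgroup.map_commutator, hfv] at h1
    exact H.J_notMem (H.commutator_le (Subgroup.commutator_mono hle hle h1))

theorem small : SmallFacts (alternatingGroup (Fin H.m)) := by
  rcases H.m_cases with h | h <;> rw [h]
  · exact smallFacts_four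
  · exact smallFacts_five

theorem card_T : (H.m = 4 → Nat.card H.T = 12) ∧ (H.m = 5 → Nat.card H.T = 60) := by
  constructor <;> intro h <;>
  · haveI : Nontrivial (Fin H.m) := by rw [h]; infer_instance
    rw [Nat.card_congr H.e.toEquiv, nat_card_alternatingGroup, Nat.card_eq_fintype_card,
      Fintype.card_fin, h]
    rfl

theorem card_zpowers_J : Nat.card (Subgroup.zpowers H.J) = 2 := by
  rw [Nat.card_zpowers, H.hJ]

theorem card_C : Nat.card ↥H.cent = 2 * Nat.card H.T := by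
  rw [← Nat.card_congr H.centEquiv.toEquiv, Nat.card_prod, H.card_zpowers_J]

theorem card_P : Nat.card (H.P : Subgroup G) = 8 := by
  obtain ⟨k, hk⟩ := H.P.2.exists_card_eq
  have hmul := Subgroup.card_mul_index ((H.P : Subgroup G).subgroupOf H.cent)
  rw [Nat.card_congr (Subgroup.subgroupOfEquivOfLe H.hPC).toEquiv, hk, H.card_C] at hmul
  have hodd : ¬ 2 ∣ ((H.P : Subgroup G).subgroupOf H.cent).index := fun h =>
    H.P.not_dvd_index (h.trans (Subgroup.relIndex_dvd_index_of_le H.hPC))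
  set r := ((H.P : Subgroup G).subgroupOf H.cent).index with hr
  have hval : 2 ^ k * r = 24 ∨ 2 ^ k * r = 120 := by
    rcases H.m_cases with h | h
    · left; rw [hmul, H.card_T.1 h]
    · right; rw [hmul, H.card_T.2 h]
  have hk7 : 2 ^ k ≤ 2 ^ 7 := by
    rcases hval with h | h <;>
      · have := Nat.le_of_dvd (by omega) ⟨r, h.symm⟩
        omega
  have hk8 : k ≤ 7 := (Nat.pow_le_pow_iff_right (by norm_num)).mp hk7
  rw [hk]
  interval_cases k <;> omega

theorem card_Q : Nat.card ↥((H.P : Subgroup G) ⊓ H.T) = 4 := by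
  have h := Subgroup.card_mul_index (((H.P : Subgroup G) ⊓ H.T).subgroupOf (H.P : Subgroup G))
  rw [Nat.card_congr (Subgroup.subgroupOfEquivOfLe inf_le_left).toEquiv, H.card_P] at h
  have h2 := H.relIndex_Q
  rw [Subgroup.relIndex] at h2
  rw [h2] at h
  omega

theorem Q_sq {t : G} (ht : t ∈ (H.P : Subgroup G) ⊓ H.T) : t * t = 1 := by
  have h4 : (⟨t, ht.2⟩ : H.T) ^ 4 = 1 := Subtype.ext (by
    have := pow_card_eq_one' (x := (⟨t, ht⟩ : ↥((H.P : Subgroup G) ⊓ H.T)))
    rw [H.card_Q] at this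
    simpa using congrArg (fun z : ↥((H.P : Subgroup G) ⊓ H.T) => (z : G)) this)
  have h := H.small.pow_four (H.e ⟨t, ht.2⟩) (by rw [← map_pow, h4, map_one])
  rw [← map_pow] at h
  have h' := congrArg Subtype.val (H.e.map_eq_one_iff.mp h)
  simpa [pow_two] using h'

theorem P_sq {x : G} (hx : x ∈ (H.P : Subgroup G)) : x * x = 1 := by
  rcases H.decomp (H.hPC hx) with h | h
  · exact H.Q_sq ⟨hx, h⟩
  · have h1 := H.Q_sq (t := H.J * x) ⟨(H.P : Subgroup G).mul_mem H.hJP hx, h⟩
    have hc := Subgroup.mem_centralizer_singleton_iff.mp (H.hPC hx)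
    calc x * x = H.J * H.J * (x * x) := by rw [H.J_sq, one_mul]
      _ = H.J * (H.J * x) * x := by group
      _ = H.J * (x * H.J) * x := by rw [hc]
      _ = H.J * x * (H.J * x) := by group
      _ = 1 := h1

theorem P_elementary : Cfsg.IsElementaryAbelian 2 (H.P : Subgroup G) := by
  refine ⟨⟨⟨fun a b => Subtype.ext ?_⟩⟩, fun a ha => by rw [pow_two, H.P_sq ha]⟩
  have ha := H.P_sq a.2
  have hb := H.P_sq b.2
  have hab := H.P_sq ((H.P : Subgroup G).mul_mem a.2 b.2)
  change (a : G) * b = b * a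
  rw [← inv_eq_of_mul_eq_one_right hab, mul_inv_rev, inv_eq_of_mul_eq_one_right ha,
    inv_eq_of_mul_eq_one_right hb]

/-- All involutions are conjugate to `J`. -/
theorem conj_J {x : G} (hx : orderOf x = 2) : ∃ g : G, g * H.J * g⁻¹ = x := by
  haveI := Fact.mk Nat.prime_two
  have hTconj : ∀ u v : G, u ∈ H.T → v ∈ H.T → orderOf u = 2 → orderOf v = 2 →
      ∃ g : G, g * u * g⁻¹ = v := by
    intro u v hu hv hu2 hv2
    obtain ⟨a, ha⟩ := H.small.conj (H.e ⟨u, hu⟩) (H.e ⟨v, hv⟩)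
      (by rw [H.e.orderOf_eq, Subgroup.orderOf_mk, hu2])
      (by rw [H.e.orderOf_eq, Subgroup.orderOf_mk, hv2])
    refine ⟨((H.e.symm a : H.T) : G), ?_⟩
    have := congrArg (fun z => ((H.e.symm z : H.T) : G)) ha
    simpa using this
  have hord : ∀ (g y : G), orderOf (g * y * g⁻¹) = orderOf y := fun g y =>
    (MulAut.conj g).orderOf_eq y
  have hP : ∀ y ∈ (H.P : Subgroup G), orderOf y = 2 → ∃ g, g * y * g⁻¹ ∈ H.T := by
    intro y hy hy2
    by_cases hyT : y ∈ H.T
    · exact ⟨1, by simpa using hyT⟩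
    · obtain ⟨g, -, h⟩ := H.conj_into_T hy (H.P_sq hy) hyT
      exact ⟨g, h⟩
  obtain ⟨Q, hQ⟩ := IsPGroup.exists_le_sylow (IsPGroup.of_card (n := 1)
    (show Nat.card (Subgroup.zpowers x) = 2 ^ 1 by rw [Nat.card_zpowers, hx, pow_one]) :
      IsPGroup 2 (Subgroup.zpowers x))
  obtain ⟨k, hk⟩ := MulAction.exists_smul_eq G Q H.P
  have hkx : k * x * k⁻¹ ∈ (H.P : Subgroup G) := by
    rw [← hk, Sylow.coe_subgroup_smul]
    exact Subgroup.smul_mem_pointwise_smul x (MulAut.conj k) _ (hQ (Subgroup.mem_zpowers x))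
  obtain ⟨g₁, h₁⟩ := hP _ hkx ((hord k x).trans hx)
  obtain ⟨g₂, h₂⟩ := hP _ H.hJP H.hJ
  obtain ⟨g, hg⟩ := hTconj _ _ h₂ h₁ ((hord _ _).trans H.hJ)
    (((hord _ _).trans (hord k x)).trans hx)
  refine ⟨k⁻¹ * g₁⁻¹ * g * g₂, ?_⟩
  calc k⁻¹ * g₁⁻¹ * g * g₂ * H.J * (k⁻¹ * g₁⁻¹ * g * g₂)⁻¹
      = k⁻¹ * g₁⁻¹ * (g * (g₂ * H.J * g₂⁻¹) * g⁻¹) * g₁ * k := by group
    _ = x := by rw [hg]; group

include H in
theorem odd_normal_bot (N : Subgroup G) (hN : N.Normal) (hodd : Odd (Nat.card N)) : N = ⊥ := by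
  haveI := Fact.mk Nat.prime_two
  haveI := hN
  have hnot : ∀ y ∈ N, y * y = 1 → y = 1 := by
    intro y hy hyy
    by_contra hy1
    have := Subgroup.orderOf_dvd_natCard N hy
    rw [orderOf_two_of_sq hyy hy1] at this
    exact Nat.not_even_iff_odd.mpr hodd (even_iff_two_dvd.mpr this)
  have hNT : ∀ y ∈ N, y ∈ H.cent → y ∈ H.T := by
    intro y hy hyC
    rcases H.decomp hyC with h | h
    · exact h
    · exfalso
      have hc := Subgroup.mem_centralizer_singleton_iff.mp hyC
      obtain ⟨r, hr⟩ := (hodd.of_dvd_nat (Subgroup.orderOf_dvd_natCard N hy))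
      have hpow : (H.J * y) ^ orderOf y = H.J := by
        rw [(show Commute H.J y from hc.symm).mul_pow, pow_orderOf_eq_one, mul_one, hr, pow_succ,
          pow_mul, pow_two, H.J_sq, one_pow, one_mul]
      exact H.J_notMem (hpow ▸ H.T.pow_mem h _)
  have hK : ∀ y ∈ N, y ∈ H.cent → y = 1 := by
    intro y hy hyC
    set K : Subgroup (alternatingGroup (Fin H.m)) :=
      (N.subgroupOf H.T).map H.e.toMonoidHom with hKdef
    have hKn : K.Normal := (inferInstance : (N.subgroupOf H.T).Normal).map _ H.e.surjective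
    have hKodd : Odd (Nat.card K) := by
      rw [hKdef, Nat.card_congr ((N.subgroupOf H.T).equivMapOfInjective _ H.e.injective).symm.toEquiv]
      exact hodd.of_dvd_nat (Subgroup.card_comap_dvd_of_injective N H.T.subtype
        (Subgroup.subtype_injective _))
    have hKb := H.small.odd_normal K hKn hKodd
    have hmem : H.e ⟨y, hNT y hy hyC⟩ ∈ K :=
      Subgroup.mem_map_of_mem _ (show (⟨y, hNT y hy hyC⟩ : H.T) ∈ N.subgroupOf H.T from hy)
    rw [hKb, Subgroup.mem_bot, H.e.map_eq_one_iff] at hmem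
    exact congrArg Subtype.val hmem
  have hcent : ∀ u : G, orderOf u = 2 → ∀ y ∈ N, u * y = y * u → y = 1 := by
    intro u hu y hy hc
    obtain ⟨g, rfl⟩ := H.conj_J hu
    have h1 := hK (g⁻¹ * y * g⁻¹⁻¹) (hN.conj_mem y hy g⁻¹) (by
      rw [Subgroup.mem_centralizer_singleton_iff]
      calc g⁻¹ * y * g⁻¹⁻¹ * H.J = g⁻¹ * (y * (g * H.J * g⁻¹)) * g := by group
        _ = g⁻¹ * (g * H.J * g⁻¹ * y) * g := by rw [hc]
        _ = _ := by group)
    calc y = g * (g⁻¹ * y * g⁻¹⁻¹) * g⁻¹ := by group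
      _ = 1 := by rw [h1]; group
  have hinv : ∀ u : G, orderOf u = 2 → ∀ y ∈ N, u * y * u⁻¹ = y⁻¹ := by
    intro u hu y hy
    have huu := Transfer.sq_eq_one_of_orderOf_eq_two hu
    let φ : ↥N →* ↥N := (MulAut.conjNormal u).toMonoidHom
    have hf : MonoidHom.FixedPointFree φ := by
      intro z hz
      refine Subtype.ext (hcent u hu z.1 z.2 ?_)
      have := congrArg Subtype.val hz
      rw [show ((φ z : N) : G) = u * z.1 * u⁻¹ from MulAut.conjNormal_apply u z] at this
      exact mul_inv_eq_iff_eq_mul.mp this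
    have h2 : Function.Involutive φ := fun z => Subtype.ext (by
      rw [show ((φ (φ z) : N) : G) = u * (u * z.1 * u⁻¹) * u⁻¹ from rfl]
      rw [show u * (u * z.1 * u⁻¹) * u⁻¹ = (u * u) * z.1 * (u * u)⁻¹ by group, huu]
      group)
    have := congrFun (MonoidHom.FixedPointFree.coe_eq_inv_of_involutive hf h2) ⟨y, hy⟩
    exact congrArg Subtype.val this
  -- two involutions of the four group
  haveI : Nontrivial ↥((H.P : Subgroup G) ⊓ H.T) :=
    Finite.one_lt_card_iff_nontrivial.mp (by rw [H.card_Q]; norm_num)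
  obtain ⟨a, ha⟩ := exists_ne (1 : ↥((H.P : Subgroup G) ⊓ H.T))
  have ha1 : (a : G) ≠ 1 := fun e => ha (Subtype.ext e)
  have haJ : (a : G) ≠ H.J := fun e => H.J_notMem (e ▸ a.2.2)
  have hab : orderOf (H.J * a.1) = 2 := by
    refine orderOf_two_of_sq (H.P_sq ((H.P : Subgroup G).mul_mem H.hJP a.2.1)) fun e => haJ ?_
    exact (mul_eq_one_iff_eq_inv'.mp e).trans (inv_eq_of_mul_eq_one_right H.J_sq)
  refine (Subgroup.eq_bot_iff_forall N).mpr fun y hy => hcent _ hab y hy ?_
  have i1 := hinv H.J H.hJ y hy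
  have i2 := hinv a.1 (orderOf_two_of_sq (H.P_sq a.2.1) ha1) y hy
  have i3 : H.J * a.1 * y * (H.J * a.1)⁻¹ = y := by
    calc H.J * a.1 * y * (H.J * a.1)⁻¹ = H.J * (a.1 * y * a.1⁻¹) * H.J⁻¹ := by group
      _ = H.J * y⁻¹ * H.J⁻¹ := by rw [i2]
      _ = (H.J * y * H.J⁻¹)⁻¹ := by group
      _ = y := by rw [i1, inv_inv]
  exact mul_inv_eq_iff_eq_mul.mp i3

/-- The subgroup generated by the involutions. -/
def core : Subgroup G := Subgroup.normalClosure {H.J}

instance : H.core.Normal := Subgroup.normalClosure_normal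

theorem J_mem_core : H.J ∈ H.core := Subgroup.subset_normalClosure rfl

theorem mem_core {x : G} (hx : orderOf x = 2) : x ∈ H.core := by
  obtain ⟨g, rfl⟩ := H.conj_J hx
  exact (inferInstance : H.core.Normal).conj_mem _ H.J_mem_core g

theorem P_le_core : (H.P : Subgroup G) ≤ H.core := by
  intro x hx
  by_cases h : x = 1
  · exact h ▸ H.core.one_mem
  · exact H.mem_core (orderOf_two_of_sq (H.P_sq hx) h)

theorem core_le {M : Subgroup G} (hM : M.Normal) {x : G} (hx : orderOf x = 2) (hxM : x ∈ M) :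
    H.core ≤ M := by
  haveI := hM
  refine Subgroup.normalClosure_le_normal fun y hy => ?_
  rw [Set.mem_singleton_iff] at hy
  subst hy
  obtain ⟨g, rfl⟩ := H.conj_J hx
  have := hM.conj_mem _ hxM g⁻¹
  rw [show g⁻¹ * (g * H.J * g⁻¹) * g⁻¹⁻¹ = H.J by group] at this
  exact this

theorem not_normal : ¬ (H.P : Subgroup G).Normal := by
  intro hn
  refine H.hns ?_
  haveI := Fact.mk Nat.prime_two
  have horb : MulAction.orbit (ConjAct G) H.J = ((H.P : Subgroup G) : Set G) \ {1} := by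
    ext x
    rw [ConjAct.mem_orbit_conjAct, isConj_comm, isConj_iff]
    constructor
    · rintro ⟨g, rfl⟩
      exact ⟨hn.conj_mem _ H.hJP g, fun e => H.J_ne (conj_eq_one_iff.mp e)⟩
    · rintro ⟨hx, hx1⟩
      exact H.conj_J (orderOf_two_of_sq (H.P_sq hx) hx1)
  have hidx : (Subgroup.centralizer ({H.J} : Set G)).index = 7 := by
    have h1 := MulAction.index_stabilizer (ConjAct G) H.J
    rw [horb, Set.ncard_sdiff_singleton_of_mem (Subgroup.one_mem _),
      ← Nat.card_coe_set_eq, SetLike.coe_sort_coe, H.card_P] at h1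
    rw [Subgroup.centralizer_eq_comap_stabilizer]
    exact ((MulAction.stabilizer (ConjAct G) H.J).index_comap_of_surjective
      (f := (ConjAct.toConjAct : G ≃* ConjAct G).toMonoidHom)
      (ConjAct.toConjAct : G ≃* ConjAct G).surjective).trans h1
  have hG := Subgroup.card_mul_index (Subgroup.centralizer ({H.J} : Set G))
  rw [hidx, H.card_C] at hG
  have hq := Subgroup.card_mul_index (H.P : Subgroup G)
  rw [H.card_P] at hq
  haveI : IsZGroup (G ⧸ (H.P : Subgroup G)) := by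
    refine IsZGroup.of_squarefree ?_
    rw [← Subgroup.index_eq_card]
    rcases H.m_cases with h | h
    · rw [H.card_T.1 h] at hG
      rw [show (H.P : Subgroup G).index = 21 by omega]
      decide +kernel
    · rw [H.card_T.2 h] at hG
      rw [show (H.P : Subgroup G).index = 105 by omega]
      decide +kernel
  haveI : Group.IsSolvable (H.P : Subgroup G) :=
    Group.isSolvable_of_comm fun a b => H.P_elementary.1.is_comm.comm a b
  exact Group.isSolvable_of_ker_le_range (H.P : Subgroup G).subtype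
    (QuotientGroup.mk' (H.P : Subgroup G)) (by rw [QuotientGroup.ker_mk', Subgroup.range_subtype])

end Hyp

end CfsgLib.CentTwoAlt
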